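import Groth.Agent.CI14.DivSeq
import Groth.Agent.Lef23.Formal
import Groth.Agent.AbCubeLib.FiniteDegree
import Groth.Agent.CurveRR24.Ample

/-!
# Euler characteristics on the thickenings of an effective Cartier divisor
-/

set_option autoImplicit false
set_option linter.style.haveILetI false
set_option linter.unusedSectionVars false
set_option backward.isDefEq.respectTransparency false
set_option backward.isDefEq.respectTransparency.types false
set_option maxHeartbeats 1000000

universe u

open CategoryTheory CategoryTheory.Limits AlgebraicGeometry Opposite TopologicalSpace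
open Groth.Agent.Coherent Groth.Agent.PicLib Groth.Agent.AmpleLib Groth.Agent.EulerLib Groth.Agent.CurveRR24

namespace Groth.Agent.JetDeg19179

variable (k : Type u) [Field k] {P X : Scheme.{u}}
  [P.Over (Spec (CommRingCat.of k))] [IsProper (P ↘ Spec (CommRingCat.of k))]
  [X.Over (Spec (CommRingCat.of k))]
  (s : X ⟶ P) [IsClosedImmersion s]
  (hs : s ≫ (P ↘ Spec (CommRingCat.of k)) = X ↘ Spec (CommRingCat.of k))
  (hJ : BlowUp.IsEffCartierIdeal s.ker)

include hs in
theorem euler_push_image (N : P.Modules) (hN : PicF.IsInvertible N) :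
    Curv2.euler k P ((Coh.push s.ker.subschemeι).obj ((Scheme.Modules.pullback s.ker.subschemeι).obj N)) =
      Curv2.euler k X ((Scheme.Modules.pullback s).obj N) := by
  haveI : P.IsSeparated := isSeparated_of_proper (X := P) k
  letI : s.ker.subscheme.Over (Spec (CommRingCat.of k)) := ⟨s.ker.subschemeι ≫ (P ↘ Spec (CommRingCat.of k))⟩
  haveI : IsProper (s.ker.subscheme ↘ Spec (CommRingCat.of k)) :=
    inferInstanceAs (IsProper (s.ker.subschemeι ≫ (P ↘ Spec (CommRingCat.of k))))
  haveI : s.ker.subscheme.IsSeparated := isSeparated_of_proper (X := s.ker.subscheme) k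
  have hT : s.toImage ≫ (s.ker.subschemeι ≫ (P ↘ Spec (CommRingCat.of k))) = X ↘ Spec (CommRingCat.of k) := by
    rw [← hs]
    exact (Category.assoc _ _ _).symm.trans (congrArg (· ≫ _) s.toImage_imageι)
  let N' := (Scheme.Modules.pullback s.ker.subschemeι).obj N
  have hN' : PicF.IsInvertible N' := PicLoc.isInvertible_pullback _ hN
  haveI := isQCoh_of_isInvertible hN'
  haveI := isQCoh_of_isInvertible (PicLoc.isInvertible_pullback s.toImage hN')
  haveI := CI14.isIso_clUnit_of_isIso s.toImage N'
  let e : (Scheme.Modules.pullback s.toImage).obj N' ≅ (Scheme.Modules.pullback s).obj N :=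
    (Scheme.Modules.pullbackComp s.toImage s.ker.subschemeι ≪≫
      Scheme.Modules.pullbackCongr s.toImage_imageι).app N
  rw [← AbCubeLib.euler_push k s.ker.subschemeι rfl N', ← euler_congr k X e,
    AbCubeLib.euler_push k s.toImage hT]
  exact euler_congr k _ (asIso (clUnit s.toImage N'))

/-- `M ⊗ 𝒥^{⊗ n}`. -/
noncomputable abbrev tw (M : P.Modules) (n : ℕ) : P.Modules :=
  CohB1.tensorMod M (CohB1.tensorPow (ClSub.idealMod s.ker) n)

include hJ in
theorem isInvertible_tw {M : P.Modules} (hM : PicF.IsInvertible M) (n : ℕ) : PicF.IsInvertible (tw s M n) :=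
  isInvertible_tensorMod hM (isInvertible_tensorPow (FlatMor12.IdealModGen.isInvertible_idealMod _ hJ) n)

include hs hJ in
theorem euler_tw_step {M : P.Modules} (hM : PicF.IsInvertible M) (n : ℕ) :
    Curv2.euler k P (tw s M n) =
      Curv2.euler k P (tw s M (n + 1)) + Curv2.euler k X ((Scheme.Modules.pullback s).obj (tw s M n)) := by
  haveI := isLocallyNoetherian_of_proper k (X := P)
  haveI : P.IsSeparated := isSeparated_of_proper (X := P) k
  have hI := FlatMor12.IdealModGen.isInvertible_idealMod _ hJ
  have hN := isInvertible_tw s hJ hM n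
  have hN' := PicLoc.isInvertible_pullback s.ker.subschemeι hN
  have h := euler_additive k P _ (CI14.divSeq_shortExact s.ker hI hN)
    (CurveRR24.isCoh_of_isInvertible k (isInvertible_tensorMod hN hI)) (CurveRR24.isCoh_of_isInvertible k hN)
    (isCoh_push_finite s.ker.subschemeι (by
      letI : s.ker.subscheme.Over (Spec (CommRingCat.of k)) :=
        ⟨s.ker.subschemeι ≫ (P ↘ Spec (CommRingCat.of k))⟩
      haveI : IsProper (s.ker.subscheme ↘ Spec (CommRingCat.of k)) :=
        inferInstanceAs (IsProper (s.ker.subschemeι ≫ (P ↘ Spec (CommRingCat.of k))))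
      exact CurveRR24.isCoh_of_isInvertible k hN'))
  rw [euler_push_image k s hs _ hN] at h
  obtain ⟨e, -⟩ := exists_assocIso hM (isInvertible_tensorPow hI n) hI
  rw [euler_congr k P e] at h
  exact h

include hs hJ in
/-- The Euler characteristic of an invertible module on the `n`-th thickening. -/
theorem euler_thick {M : P.Modules} (hM : PicF.IsInvertible M) (n : ℕ) :
    (letI : (s.ker ^ (n + 1)).subscheme.Over (Spec (CommRingCat.of k)) :=
        ⟨(s.ker ^ (n + 1)).subschemeι ≫ (P ↘ Spec (CommRingCat.of k))⟩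
     Curv2.euler k (s.ker ^ (n + 1)).subscheme ((Scheme.Modules.pullback (s.ker ^ (n + 1)).subschemeι).obj M)) =
      ∑ j ∈ Finset.range (n + 1), Curv2.euler k X ((Scheme.Modules.pullback s).obj (tw s M j)) := by
  letI : (s.ker ^ (n + 1)).subscheme.Over (Spec (CommRingCat.of k)) :=
    ⟨(s.ker ^ (n + 1)).subschemeι ≫ (P ↘ Spec (CommRingCat.of k))⟩
  haveI : IsProper ((s.ker ^ (n + 1)).subscheme ↘ Spec (CommRingCat.of k)) :=
    inferInstanceAs (IsProper ((s.ker ^ (n + 1)).subschemeι ≫ (P ↘ Spec (CommRingCat.of k))))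
  haveI := isLocallyNoetherian_of_proper k (X := P)
  haveI : P.IsSeparated := isSeparated_of_proper (X := P) k
  have hK := Inters29.isEffCartier_pow hJ (n + 1)
  have hKi := FlatMor12.IdealModGen.isInvertible_idealMod _ hK
  have hM' := PicLoc.isInvertible_pullback (s.ker ^ (n + 1)).subschemeι hM
  haveI := isQCoh_of_isInvertible hM'
  have h := euler_additive k P _ (CI14.divSeq_shortExact _ hKi hM)
    (CurveRR24.isCoh_of_isInvertible k (isInvertible_tensorMod hM hKi)) (CurveRR24.isCoh_of_isInvertible k hM)
    (isCoh_push_finite (s.ker ^ (n + 1)).subschemeι (CurveRR24.isCoh_of_isInvertible k hM'))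
  rw [← AbCubeLib.euler_push k (s.ker ^ (n + 1)).subschemeι rfl] at h
  obtain ⟨ep⟩ := Lef23.nonempty_idealMod_pow s.ker hJ (n + 1)
  rw [euler_congr k P (AmpleLib.tensorIso (Iso.refl M) ep),
    ← euler_congr k P (show tw s M 0 ≅ M from tensorComm _ _ ≪≫ unitTensorIso M)] at h
  have hsum : ∀ m : ℕ, Curv2.euler k P (tw s M 0) = Curv2.euler k P (tw s M m) +
      ∑ j ∈ Finset.range m, Curv2.euler k X ((Scheme.Modules.pullback s).obj (tw s M j)) := by
    intro m
    induction m with
    | zero => simp
    | succ m ih => rw [ih, euler_tw_step k s hs hJ hM m, Finset.sum_range_succ]; ring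
  rw [hsum (n + 1)] at h
  exact (add_left_cancel h).symm

end Groth.Agent.JetDeg19179
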